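import Cfsg.Agent.OmegaSevenTwo.Monomial
import Cfsg.Agent.Forms4.POmegaOrders
import Cfsg.Agent.SylowTwoAb.OrthVal
import Cfsg.Agent.FormDiscr.Basic
import Cfsg.Agent.FusionPStable.Basic

/-!
# The monomial frame of an orthogonal group in dimension seven
-/

set_option autoImplicit false
set_option linter.unusedSectionVars false

namespace CfsgLib.OmegaSevenTwo

open Matrix Equiv

variable {F : Type*} [Field F]

/-- A multiple of the sum of squares. -/
def sqSum (c : F) (v : Fin 7 → F) : F := c * ∑ i, v i * v i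

/-- Matrices of sign vectors. -/
def signHom (F : Type*) [Field F] : (Fin 7 → ℤˣ) →* Matrix (Fin 7) (Fin 7) F where
  toFun ε := Matrix.diagonal fun i => ((ε i : ℤ) : F)
  map_one' := by simp
  map_mul' ε ε' := by simp [Matrix.diagonal_mul_diagonal]

/-- Matrices of permutations. -/
def permHom (F : Type*) [Field F] : Perm (Fin 7) →* Matrix (Fin 7) (Fin 7) F where
  toFun σ := Matrix.of fun i j => if σ j = i then 1 else 0
  map_one' := by ext i j; simp [Matrix.one_apply, eq_comm]
  map_mul' σ τ := by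
    ext i j
    rw [Matrix.mul_apply, Finset.sum_eq_single (τ j)]
    · simp only [Matrix.of_apply, Perm.mul_apply, if_true]
      by_cases h : σ (τ j) = i <;> simp [h]
    · intro x _ hx
      simp [Ne.symm hx]
    · simp

theorem signPerm_apply (ε : Fin 7 → ℤˣ) (σ : Perm (Fin 7)) (i j : Fin 7) :
    (signHom F ε * permHom F σ) i j = if σ j = i then ((ε i : ℤ) : F) else 0 := by
  simp [signHom, permHom, Matrix.diagonal_mul]

theorem perm_mul_sign (ε : Fin 7 → ℤˣ) (σ : Perm (Fin 7)) :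
    permHom F σ * signHom F ε = signHom F (fun i => ε (σ⁻¹ i)) * permHom F σ := by
  ext i j
  rw [signPerm_apply]
  simp only [signHom, permHom, MonoidHom.coe_mk, OneHom.coe_mk, Matrix.mul_diagonal, Matrix.of_apply]
  by_cases h : σ j = i
  · subst h; simp
  · simp [h]

theorem cast_unit_sq (u : ℤˣ) : ((u : ℤ) : F) * ((u : ℤ) : F) = 1 := by
  rw [← Int.cast_mul, ← Units.val_mul, Int.units_mul_self]; simp

theorem sqSum_sign (c : F) (ε : Fin 7 → ℤˣ) (v : Fin 7 → F) : sqSum c (signHom F ε *ᵥ v) = sqSum c v := by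
  unfold sqSum
  congr 1
  refine Finset.sum_congr rfl fun i _ => ?_
  simp only [signHom, MonoidHom.coe_mk, OneHom.coe_mk, Matrix.mulVec_diagonal]
  rw [mul_mul_mul_comm, cast_unit_sq, one_mul]

theorem sqSum_perm (c : F) (σ : Perm (Fin 7)) (v : Fin 7 → F) : sqSum c (permHom F σ *ᵥ v) = sqSum c v := by
  unfold sqSum
  congr 1
  have h : ∀ i, (permHom F σ *ᵥ v) (σ i) = v i := fun i => by
    simp [permHom, Matrix.mulVec, dotProduct, σ.injective.eq_iff]
  rw [← Equiv.sum_comp σ]
  simp [h]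

/-- The involution mixing four coordinates. -/
def mixMat (F : Type*) [Field F] : Matrix (Fin 7) (Fin 7) F :=
  !![(2 : F)⁻¹, (2 : F)⁻¹, (2 : F)⁻¹, (2 : F)⁻¹, 0, 0, 0;
    (2 : F)⁻¹, -(2 : F)⁻¹, (2 : F)⁻¹, -(2 : F)⁻¹, 0, 0, 0;
    (2 : F)⁻¹, (2 : F)⁻¹, -(2 : F)⁻¹, -(2 : F)⁻¹, 0, 0, 0;
    (2 : F)⁻¹, -(2 : F)⁻¹, -(2 : F)⁻¹, (2 : F)⁻¹, 0, 0, 0;
    0, 0, 0, 0, 1, 0, 0;
    0, 0, 0, 0, 0, 1, 0;
    0, 0, 0, 0, 0, 0, 1]

theorem sqSum_mix (h2 : (2 : F) ≠ 0) (c : F) (v : Fin 7 → F) : sqSum c (mixMat F *ᵥ v) = sqSum c v := by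
  have hh : (2 : F) * 2⁻¹ = 1 := mul_inv_cancel₀ h2
  unfold sqSum
  congr 1
  simp [mixMat, Fin.sum_univ_seven, Matrix.vecHead, Matrix.vecTail]
  linear_combination (v 0 * v 0 + v 1 * v 1 + v 2 * v 2 + v 3 * v 3) * ((2 : F) * 2⁻¹ + 1) * hh

theorem mixMat_sq (h2 : (2 : F) ≠ 0) : mixMat F * mixMat F = 1 := by
  have hh : (2 : F) * 2⁻¹ = 1 := mul_inv_cancel₀ h2
  ext i j
  fin_cases i <;> fin_cases j <;>
    simp [mixMat, Matrix.mul_apply, Fin.sum_univ_seven] <;>
    linear_combination ((2 : F) * 2⁻¹ + 1) * hh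

theorem mixMat_fuse (h2 : (2 : F) ≠ 0) :
    mixMat F * signHom F (Pi.mulSingle 1 (-1) * Pi.mulSingle 3 (-1)) = permHom F (pm 1) * mixMat F := by
  ext i j
  simp only [signHom, permHom, MonoidHom.coe_mk, OneHom.coe_mk, Matrix.mul_diagonal]
  rw [Matrix.mul_apply, Fin.sum_univ_seven]
  fin_cases i <;> fin_cases j <;> simp [mixMat, pm, tbl, Pi.mulSingle_apply]

theorem mixMat_reflect (h2 : (2 : F) ≠ 0) :
    mixMat F * permHom F (swap 1 2) = signHom F (Pi.mulSingle 2 (-1)) * mixMat F * signHom F (Pi.mulSingle 1 (-1)) *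
      mixMat F * signHom F (Pi.mulSingle 2 (-1)) := by
  have hh : (2 : F) * 2⁻¹ = 1 := mul_inv_cancel₀ h2
  ext i j
  simp only [signHom, permHom, MonoidHom.coe_mk, OneHom.coe_mk, Matrix.mul_diagonal]
  rw [Matrix.mul_apply, Matrix.mul_apply, Fin.sum_univ_seven, Fin.sum_univ_seven]
  simp only [Matrix.mul_diagonal, Matrix.diagonal_mul]
  fin_cases i <;> fin_cases j <;> simp [mixMat, Pi.mulSingle_apply, swap_apply_def] <;>
    first
    | linear_combination (2 : F)⁻¹ * hh
    | linear_combination -(2 : F)⁻¹ * hh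
    | linear_combination hh
    | linear_combination -hh

/-- The frame of the isometries of a multiple of the sum of squares. -/
theorem nonempty_frame (h2 : (2 : F) ≠ 0) {c : F} (hc : c ≠ 0) :
    Nonempty (Frame ↥(Cfsg.isometryGroup F (sqSum c))) := by
  have hpm : ∀ u : ℤˣ, ((u : ℤ) : F) = 1 → u = 1 := by
    intro u hu
    rcases Int.units_eq_one_or u with e | e
    · exact e
    · subst e
      simp at hu
      exact absurd (show (2 : F) = 0 by linear_combination -hu) h2
  let δ : (Fin 7 → ℤˣ) →* ↥(Cfsg.isometryGroup F (sqSum c)) :=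
    (signHom F).toHomUnits.codRestrict _ fun ε => by
      rw [CfsgLib.FieldEmb.mem_isometryGroup]
      exact fun v => sqSum_sign c ε v
  let ψ : Perm (Fin 7) →* ↥(Cfsg.isometryGroup F (sqSum c)) :=
    (permHom F).toHomUnits.codRestrict _ fun σ => by
      rw [CfsgLib.FieldEmb.mem_isometryGroup]
      exact fun v => sqSum_perm c σ v
  have hext : ∀ g g' : ↥(Cfsg.isometryGroup F (sqSum c)),
      ((g : GL (Fin 7) F) : Matrix (Fin 7) (Fin 7) F) = ((g' : GL (Fin 7) F) : Matrix (Fin 7) (Fin 7) F) → g = g' :=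
    fun g g' h => Subtype.ext (Units.ext h)
  let mx : GL (Fin 7) F := ⟨mixMat F, mixMat F, mixMat_sq h2, mixMat_sq h2⟩
  have hmx : mx ∈ Cfsg.isometryGroup F (sqSum c) := by
    rw [CfsgLib.FieldEmb.mem_isometryGroup]
    exact fun v => sqSum_mix h2 c v
  set h : ↥(Cfsg.isometryGroup F (sqSum c)) := ⟨mx, hmx⟩ with hh
  have hrel : ∀ (ε : Fin 7 → ℤˣ) (σ : Perm (Fin 7)), ψ σ * δ ε * (ψ σ)⁻¹ = δ (fun i => ε (σ⁻¹ i)) := by
    intro ε σ
    rw [mul_inv_eq_iff_eq_mul]
    exact hext _ _ (perm_mul_sign ε σ)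
  refine ⟨⟨δ, ψ, hrel, fun ε σ he => ?_, ?_, fun g hg => ?_⟩⟩
  · have he' : signHom F ε * permHom F σ = 1 :=
      congrArg (fun x : ↥(Cfsg.isometryGroup F (sqSum c)) => ((x : GL (Fin 7) F) : Matrix (Fin 7) (Fin 7) F)) he
    have hfix : ∀ j, σ j = j := by
      intro j
      by_contra hj
      have := congrFun (congrFun he' (σ j)) j
      rw [signPerm_apply, if_pos rfl, Matrix.one_apply_ne hj] at this
      exact zero_ne_one (α := F) (by rw [← cast_unit_sq (F := F) (ε (σ j)), this, mul_zero])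
    refine ⟨funext fun i => hpm _ ?_, Equiv.ext hfix⟩
    have := congrFun (congrFun he' i) i
    rwa [signPerm_apply, if_pos (hfix i), Matrix.one_apply_eq] at this
  · refine ⟨h * (ψ (swap 0 2) * δ (Pi.mulSingle 4 (-1))), ?_, ?_⟩
    · rw [← Abelianization.ker_of, MonoidHom.mem_ker]
      have e : h * ψ (swap 1 2) = δ (Pi.mulSingle 2 (-1)) * h * δ (Pi.mulSingle 1 (-1)) * h * δ (Pi.mulSingle 2 (-1)) :=
        hext _ _ (mixMat_reflect h2)
      have hh2 : h * h = 1 := hext _ _ (mixMat_sq h2)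
      set π := Abelianization.of (G := ↥(Cfsg.isometryGroup F (sqSum c)))
      have hd : ∀ i : Fin 7, π (δ (Pi.mulSingle i (-1))) * π (δ (Pi.mulSingle i (-1))) = 1 := fun i => by
        rw [← map_mul, ← map_mul, ← Pi.mulSingle_mul]; simp
      have e' := congrArg π e
      simp only [map_mul] at e'
      have hhh : π h * π h = 1 := by rw [← map_mul, hh2, map_one]
      -- the transposition classes coincide
      obtain ⟨τ, hτ⟩ : ∃ τ : Perm (Fin 7), swap 0 2 = τ * swap 1 2 * τ⁻¹ :=
        ⟨swap 0 1, Equiv.ext (by decide)⟩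
      have hs : π (ψ (swap 0 2)) = π (ψ (swap 1 2)) := by
        rw [hτ]
        simp only [map_mul, map_inv]
        rw [mul_comm (π (ψ τ)), mul_assoc, mul_inv_cancel, mul_one]
      have h14 : π (δ (Pi.mulSingle 1 (-1))) = π (δ (Pi.mulSingle 4 (-1))) := by
        have h' := congrArg π (hrel (Pi.mulSingle 1 (-1)) (swap 1 4))
        rw [map_mul, map_mul, map_inv, mul_comm (π (ψ _)), mul_assoc, mul_inv_cancel, mul_one] at h'
        rw [h']
        congr 2
        funext i
        rw [swap_inv]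
        revert i
        decide
      rw [map_mul, map_mul, hs]
      calc π h * (π (ψ (swap 1 2)) * π (δ (Pi.mulSingle 4 (-1))))
          = (π h * π (ψ (swap 1 2))) * π (δ (Pi.mulSingle 4 (-1))) := (mul_assoc _ _ _).symm
        _ = (π (δ (Pi.mulSingle 2 (-1))) * π (δ (Pi.mulSingle 2 (-1)))) * (π h * π h) *
              (π (δ (Pi.mulSingle 1 (-1))) * π (δ (Pi.mulSingle 4 (-1)))) := by
            rw [e']
            ac_rfl
        _ = 1 := by rw [hd, hhh, h14, hd, one_mul, one_mul]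
    · have hcomm : ψ (swap 0 2) * δ (Pi.mulSingle 4 (-1)) * δ (Pi.mulSingle 1 (-1) * Pi.mulSingle 3 (-1)) =
          δ (Pi.mulSingle 1 (-1) * Pi.mulSingle 3 (-1)) * (ψ (swap 0 2) * δ (Pi.mulSingle 4 (-1))) := by
        rw [mul_assoc, ← map_mul, mul_comm (Pi.mulSingle 4 (-1) : Fin 7 → ℤˣ), map_mul, ← mul_assoc, ← mul_assoc]
        congr 1
        have h' := hrel (Pi.mulSingle 1 (-1) * Pi.mulSingle 3 (-1)) (swap 0 2)
        rw [mul_inv_eq_iff_eq_mul] at h'
        rw [h']
        congr 2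
        funext i
        rw [swap_inv]
        revert i
        decide
      have hfu : h * δ (Pi.mulSingle 1 (-1) * Pi.mulSingle 3 (-1)) = ψ (pm 1) * h := hext _ _ (mixMat_fuse h2)
      rw [mul_inv_eq_iff_eq_mul, mul_assoc, hcomm, ← mul_assoc, hfu, mul_assoc]
  · set G : Matrix (Fin 7) (Fin 7) F := ((g : GL (Fin 7) F) : Matrix (Fin 7) (Fin 7) F) with hG
    have hiso : ∀ v : Fin 7 → F, ∑ i, (G *ᵥ v) i * (G *ᵥ v) i = ∑ i, v i * v i := fun v =>
      mul_left_cancel₀ hc (CfsgLib.FieldEmb.mem_isometryGroup.1 g.2 v)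
    have hTG : Gᵀ * G = 1 := by
      ext a b
      have h1 := hiso (Pi.single a 1)
      have h2' := hiso (Pi.single b 1)
      have h3 := hiso (Pi.single a 1 + Pi.single b 1)
      simp only [Matrix.mulVec_add, Matrix.mulVec_single_one, Matrix.col_apply, Pi.add_apply, add_mul, mul_add,
        Finset.sum_add_distrib] at h1 h2' h3
      rw [h1, h2'] at h3
      rw [Matrix.mul_apply, Matrix.one_apply]
      simp only [Matrix.transpose_apply]
      have hsum : ∑ i, G i b * G i a = ∑ i, G i a * G i b := Finset.sum_congr rfl fun i _ => mul_comm _ _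
      rw [hsum] at h3
      apply mul_left_cancel₀ h2
      rcases eq_or_ne a b with rfl | hab
      · rw [if_pos rfl]
        simp [Pi.single_apply] at h1
        linear_combination 2 * h1
      · rw [if_neg hab]
        simp [Pi.single_apply, hab, hab.symm] at h3
        linear_combination h3
    have hGT : G * Gᵀ = 1 := mul_eq_one_comm.1 hTG
    have hz : ∀ ε : Fin 7 → ℤˣ, (∏ i, ε i = 1) → ∃ ε' : Fin 7 → ℤˣ, ∀ i j, G i j ≠ 0 → ε j = ε' i := by
      intro ε hε
      obtain ⟨ε', he⟩ := hg ε hε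
      refine ⟨ε', fun i j hij => ?_⟩
      rw [mul_inv_eq_iff_eq_mul] at he
      have he' : G * signHom F ε = signHom F ε' * G :=
        congrArg (fun x : ↥(Cfsg.isometryGroup F (sqSum c)) => ((x : GL (Fin 7) F) : Matrix (Fin 7) (Fin 7) F)) he
      have := congrFun (congrFun he' i) j
      simp only [signHom, MonoidHom.coe_mk, OneHom.coe_mk, Matrix.mul_diagonal, Matrix.diagonal_mul] at this
      rw [mul_comm] at this
      have hcast := mul_right_cancel₀ hij this
      have h1 : ε j * ε' i = 1 := hpm _ (by rw [Units.val_mul, Int.cast_mul, hcast, cast_unit_sq])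
      rwa [mul_eq_one_iff_eq_inv, Int.units_inv_eq_self] at h1
    have hrow : ∀ i j k, G i j ≠ 0 → G i k ≠ 0 → j = k := by
      intro i j k hj hk
      by_contra hjk
      obtain ⟨l, hlj, hlk⟩ : ∃ l : Fin 7, l ≠ j ∧ l ≠ k := by
        have : ∀ a b : Fin 7, ∃ l, l ≠ a ∧ l ≠ b := by decide +kernel
        exact this _ _
      have hev : ∀ a b : Fin 7, ∏ x, (Pi.mulSingle a (-1) * Pi.mulSingle b (-1) : Fin 7 → ℤˣ) x = 1 := by
        intro a b
        simp only [Pi.mul_apply]
        rw [Finset.prod_mul_distrib, Fintype.prod_pi_mulSingle', Fintype.prod_pi_mulSingle']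
        decide
      obtain ⟨ε', he⟩ := hz _ (hev j l)
      have := (he i j hj).trans (he i k hk).symm
      simp [Ne.symm hjk, hlj.symm, hlk.symm] at this
    have hex : ∀ i, ∃ j, G i j ≠ 0 := by
      intro i
      by_contra hno
      push Not at hno
      have := congrFun (congrFun hGT i) i
      simp [Matrix.mul_apply, hno] at this
    choose f hf using hex
    have hG1 : ∀ i, G i (f i) * G i (f i) = 1 := by
      intro i
      have := congrFun (congrFun hGT i) i
      rwa [Matrix.one_apply_eq, Matrix.mul_apply, Finset.sum_eq_single (f i)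
        (fun x _ hx => by
          have : G i x = 0 := by
            by_contra hne
            exact hx (hrow i x (f i) hne (hf i))
          simp [this]) (by simp), Matrix.transpose_apply] at this
    have hfinj : Function.Injective f := by
      intro i k hik
      by_contra hne
      have := congrFun (congrFun hGT i) k
      rw [Matrix.one_apply_ne hne, Matrix.mul_apply, Finset.sum_eq_single (f i)
        (fun x _ hx => by
          have : G i x = 0 := by
            by_contra hne'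
            exact hx (hrow i x (f i) hne' (hf i))
          simp [this]) (by simp), Matrix.transpose_apply] at this
      rcases mul_eq_zero.1 this with e | e
      · exact hf i e
      · rw [hik] at e; exact hf k e
    let σ : Perm (Fin 7) := (Equiv.ofBijective f (Finite.injective_iff_bijective.1 hfinj)).symm
    have hσ : ∀ i, σ (f i) = i := fun i => Equiv.ofBijective_symm_apply_apply f _ i
    have hu : ∀ i, ∃ u : ℤˣ, ((u : ℤ) : F) = G i (f i) := fun i => by
      rcases mul_self_eq_one_iff.1 (hG1 i) with e | e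
      · exact ⟨1, by simp [e]⟩
      · exact ⟨-1, by simp [e]⟩
    choose ε hε using hu
    refine ⟨ε, σ, hext _ _ ?_⟩
    show G = signHom F ε * permHom F σ
    ext i j
    rw [signPerm_apply]
    by_cases hj : σ j = i
    · rw [if_pos hj, hε]
      congr 1
      exact σ.injective (hj.trans (hσ i).symm)
    · rw [if_neg hj]
      by_contra hne
      exact hj (hrow i j (f i) hne (hf i) ▸ hσ i)

/-- Transport of a frame. -/
def Frame.transport {O O' : Type*} [Group O] [Group O'] (Φ : Frame O) (e : O ≃* O') : Frame O' where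
  δ := e.toMonoidHom.comp Φ.δ
  ψ := e.toMonoidHom.comp Φ.ψ
  rel ε σ := by
    show e (Φ.ψ σ) * e (Φ.δ ε) * (e (Φ.ψ σ))⁻¹ = e _
    rw [← map_inv, ← map_mul, ← map_mul, Φ.rel]
  inj ε σ h := Φ.inj ε σ (e.injective (by rw [map_mul, map_one]; exact h))
  fuse := by
    obtain ⟨h, hh, he⟩ := Φ.fuse
    refine ⟨e h, ?_, ?_⟩
    · have := Subgroup.mem_map_of_mem e.toMonoidHom hh
      rw [commutator_def, Subgroup.map_commutator] at this
      exact Subgroup.commutator_mono le_top le_top this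
    · show e h * e _ * (e h)⁻¹ = e _
      rw [← map_inv, ← map_mul, ← map_mul, he]
  recog g hg := by
    obtain ⟨ε, σ, h⟩ := Φ.recog (e.symm g) fun ε hε => by
      obtain ⟨ε', he⟩ := hg ε hε
      refine ⟨ε', e.injective ?_⟩
      rw [map_mul, map_mul, map_inv, e.apply_symm_apply]
      exact he
    refine ⟨ε, σ, ?_⟩
    show g = e (Φ.δ ε) * e (Φ.ψ σ)
    rw [← map_mul, ← h, e.apply_symm_apply]

theorem nonempty_frame_odd [Fintype F] (h2 : (2 : F) ≠ 0) :
    Nonempty (Frame ↥(Cfsg.isometryGroup F (Cfsg.quadFormOdd 3 F))) := by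
  classical
  let ε : Unit ⊕ (Fin 3 ⊕ Fin 3) ≃ Fin 7 := Fintype.equivFinOfCardEq rfl
  let L : (Fin 7 → F) ≃ₗ[F] (Unit ⊕ (Fin 3 ⊕ Fin 3) → F) := LinearEquiv.funCongrLeft F F ε
  let Q₁ : QuadraticForm F (Fin 7 → F) := (StdForms.oddQ 3 F).comp L.toLinearMap
  have hQ₁ : Q₁.polarBilin.Nondegenerate := by
    refine StdForms.nondegenerate_of_sep _ fun x hx => ?_
    have hL := (StdForms.oddQ_nondegenerate (F := F) h2 3).1 (L x) fun y => by
      have := hx (L.symm y)
      simpa [Q₁, QuadraticMap.polar] using this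
    exact L.injective (hL.trans (map_zero L).symm)
  set D := (FormDiscr.gram Q₁).det with hD
  have hD0 : D ≠ 0 := FormDiscr.gram_det_ne_zero Q₁ hQ₁
  set c := 2 * D with hc
  have hc0 : c ≠ 0 := mul_ne_zero h2 hD0
  let Q₂ : QuadraticForm F (Fin 7 → F) := QuadraticMap.weightedSumSquares F fun _ => c
  have hQ₂ : Q₂.polarBilin.Nondegenerate := by
    refine StdForms.nondegenerate_of_sep _ fun x hx => funext fun i => ?_
    have := hx (Pi.single i 1)
    simp only [Q₂, QuadraticMap.polar, QuadraticMap.weightedSumSquares_apply, smul_eq_mul, Pi.add_apply,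
      ← Finset.sum_sub_distrib] at this
    rw [Finset.sum_eq_single i (fun k _ hk => by simp [hk]) (by simp)] at this
    simp only [Pi.single_eq_same] at this
    have h' : (2 * c) * x i = 0 := by linear_combination this
    simpa [mul_eq_zero, h2, hc0] using h'
  obtain ⟨g, hg⟩ := (FormDiscr.equivalent_iff h2 Q₁ Q₂ hQ₁ hQ₂).2 (by
    rw [← hD, FormDiscr.gram_det_diag, Finset.prod_const, Finset.card_univ, Fintype.card_fin, hc]
    exact ⟨2 ^ 7 * D ^ 4, by ring⟩)
  have hQ2 : ∀ v, Q₂ v = sqSum c v := fun v => by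
    simp [Q₂, sqSum, QuadraticMap.weightedSumSquares_apply, Finset.mul_sum]
  let E : (Fin 7 → F) ≃ₗ[F] (Unit ⊕ (Fin 3 ⊕ Fin 3) → F) := g.symm.trans L
  have hE : ∀ v, Cfsg.quadFormOdd 3 F (E v) = sqSum c v := fun v => by
    rw [← StdForms.oddQ_apply, ← hQ2]
    show Q₁ (g.symm v) = Q₂ v
    rw [← hg, LinearEquiv.apply_symm_apply]
  obtain ⟨φ, hφ⟩ := CfsgLib.FieldEmb.exists_hom_of_equiv _ (Cfsg.quadFormOdd 3 F) E hE
  obtain ⟨φ', hφ'⟩ := CfsgLib.FieldEmb.exists_hom_of_equiv (Cfsg.quadFormOdd 3 F) (sqSum c) E.symm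
    (fun v => by rw [← hE, LinearEquiv.apply_symm_apply])
  have hbij : Function.Bijective φ :=
    (Nat.bijective_iff_injective_and_card φ).2 ⟨hφ,
      le_antisymm (Nat.card_le_card_of_injective _ hφ) (Nat.card_le_card_of_injective _ hφ')⟩
  obtain ⟨Φ⟩ := nonempty_frame h2 hc0
  exact ⟨Φ.transport (MulEquiv.ofBijective φ hbij)⟩

theorem factorization_card [Fintype F] {q : ℕ} (hF : Fintype.card F = q) (hq : q % 8 = 3 ∨ q % 8 = 5) :
    (Nat.card ↥(commutator ↥(Cfsg.isometryGroup F (Cfsg.quadFormOdd 3 F)))).factorization 2 = 9 := by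
  have hodd : Odd q := Nat.odd_iff.2 (by omega)
  have h2 : (2 : F) ≠ 0 := fun h =>
    (Nat.not_even_iff_odd.2 hodd) ((Forms4.two_eq_zero_iff_even hF).1 h)
  have hO := Forms4.card_isometryGroup_quadFormOdd hF hodd 3
  have hidx : (Cfsg.Omega F (Cfsg.quadFormOdd 3 F)).index = 4 := by
    rw [← StdForms.coe_oddQ]
    exact Forms.index_omega_odd h2 (StdForms.oddQ_nondegenerate h2 3) (by simp)
  rw [← Subgroup.card_mul_index (Cfsg.Omega F (Cfsg.quadFormOdd 3 F)), hidx] at hO
  have hN : Nat.card ↥(Cfsg.Omega F (Cfsg.quadFormOdd 3 F)) ≠ 0 := Nat.card_pos.ne'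
  set X := ∏ i ∈ Finset.range 3, (q ^ (2 * (i + 1)) - 1) with hX
  have hX0 : X ≠ 0 := by
    intro h0
    rw [h0, mul_zero] at hO
    exact hN (by omega)
  have hv : padicValNat 2 (q ^ 2 - 1) = 3 := by
    have h16 : (q ^ 2 - 1) % 16 = 8 := by
      have hm : q ^ 2 % 16 = 9 := by
        have : q % 16 = 3 ∨ q % 16 = 5 ∨ q % 16 = 11 ∨ q % 16 = 13 := by omega
        rw [Nat.pow_mod]
        rcases this with e | e | e | e <;> rw [e]
      omega
    rw [show q ^ 2 - 1 = 8 * (2 * ((q ^ 2 - 1) / 16) + 1) by omega, padicValNat.mul (by norm_num) (by omega),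
      padicValNat.eq_zero_of_not_dvd (n := 2 * ((q ^ 2 - 1) / 16) + 1) (by omega), show (8 : ℕ) = 2 ^ 3 from rfl,
      padicValNat.prime_pow]
  have h := congrArg (padicValNat 2) hO
  rw [padicValNat.mul hN (by norm_num), mul_assoc, padicValNat.mul (by norm_num) (mul_ne_zero (pow_ne_zero _ (by omega)) hX0),
    padicValNat.mul (pow_ne_zero _ (by omega)) hX0, padicValNat.self one_lt_two,
    padicValNat.eq_zero_of_not_dvd (n := q ^ (3 ^ 2)) (fun hd => by
      have := Nat.prime_two.dvd_of_dvd_pow hd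
      omega), hX, SylowTwoAb.val_prod hodd (by omega) 3, hv, show (4 : ℕ) = 2 ^ 2 from rfl,
    padicValNat.prime_pow, show Nat.factorial 3 = 2 * 3 from rfl, padicValNat.mul (by norm_num) (by norm_num),
    padicValNat.self one_lt_two, padicValNat.eq_zero_of_not_dvd (n := 3) (by norm_num)] at h
  rw [Nat.factorization_def _ Nat.prime_two]
  show padicValNat 2 (Nat.card ↥(Cfsg.Omega F (Cfsg.quadFormOdd 3 F))) = 9
  omega

end CfsgLib.OmegaSevenTwo
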