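import Cfsg.Agent.OmegaSevenTwo.Perms
import Cfsg.Agent.FusionSimple.Generic

/-!
# A group with a monomial frame of degree seven

`δ` embeds the sign vectors, `ψ` the permutations; when the two-part of the derived group has order `2^9` the
monomial elements of even sign vectors over the Sylow subgroup of the alternating group form a Sylow subgroup.
-/

set_option autoImplicit false

namespace CfsgLib.OmegaSevenTwo

open Equiv

/-- Sign vectors and permutations inside a group. -/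
structure Frame (O : Type*) [Group O] where
  δ : (Fin 7 → ℤˣ) →* O
  ψ : Perm (Fin 7) →* O
  rel : ∀ (ε : Fin 7 → ℤˣ) (σ : Perm (Fin 7)), ψ σ * δ ε * (ψ σ)⁻¹ = δ (fun i => ε (σ⁻¹ i))
  inj : ∀ ε σ, δ ε * ψ σ = 1 → ε = 1 ∧ σ = 1
  fuse : ∃ h ∈ commutator O,
    h * δ (Pi.mulSingle 1 (-1) * Pi.mulSingle 3 (-1)) * h⁻¹ = ψ (pm 1)
  recog : ∀ g : O, (∀ ε : Fin 7 → ℤˣ, (∏ i, ε i = 1) → ∃ ε', g * δ ε * g⁻¹ = δ ε') → ∃ ε σ, g = δ ε * ψ σ

/-- Even sign vectors. -/
def evenVec : Subgroup (Fin 7 → ℤˣ) where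
  carrier := {ε | ∏ i, ε i = 1}
  mul_mem' {a b} ha hb := by
    show ∏ i, (a i * b i) = 1
    rw [Finset.prod_mul_distrib, ha, hb, mul_one]
  one_mem' := by simp
  inv_mem' {a} ha := by
    show ∏ i, (a i)⁻¹ = 1
    rw [Finset.prod_inv_distrib, ha, inv_one]

theorem mem_evenVec {ε : Fin 7 → ℤˣ} : ε ∈ evenVec ↔ ∏ i, ε i = 1 := Iff.rfl

theorem natCard_evenVec : Nat.card evenVec = 64 := by
  rw [Nat.card_congr (show evenVec ≃ (Fin 6 → ℤˣ) from
    { toFun := fun ε (i : Fin 6) => ε.1 i.succ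
      invFun := fun f => ⟨Fin.cons (∏ i, f i) f, by
        rw [mem_evenVec, Fin.prod_univ_succ]
        simp only [Fin.cons_zero, Fin.cons_succ, Int.units_mul_self]⟩
      left_inv := fun ε => Subtype.ext (funext fun i => by
        have h := ε.2
        rw [mem_evenVec, Fin.prod_univ_succ] at h
        cases i using Fin.cases
        · show ∏ i : Fin 6, ε.1 i.succ = ε.1 0
          rw [eq_inv_of_mul_eq_one_left h, Int.units_inv_eq_self]
        · rfl)
      right_inv := fun f => funext fun i => rfl })]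
  simp

theorem comp_mem_evenVec {ε : Fin 7 → ℤˣ} (h : ε ∈ evenVec) (σ : Perm (Fin 7)) :
    (fun i => ε (σ i)) ∈ evenVec := by
  rw [mem_evenVec, Equiv.prod_comp σ ε]
  exact h

variable {O : Type*} [Group O] (Φ : Frame O)

/-- A monomial element. -/
def Frame.mon (ε : Fin 7 → ℤˣ) (σ : Perm (Fin 7)) : O := Φ.δ ε * Φ.ψ σ

theorem Frame.mon_mul (ε ε' : Fin 7 → ℤˣ) (σ σ' : Perm (Fin 7)) :
    Φ.mon ε σ * Φ.mon ε' σ' = Φ.mon (fun i => ε i * ε' (σ⁻¹ i)) (σ * σ') := by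
  unfold Frame.mon
  rw [show (fun i => ε i * ε' (σ⁻¹ i)) = ε * fun i => ε' (σ⁻¹ i) from rfl, map_mul, map_mul, ← Φ.rel ε' σ]
  group

theorem Frame.mon_one : Φ.mon 1 1 = 1 := by simp [Frame.mon]

theorem Frame.mon_inv (ε : Fin 7 → ℤˣ) (σ : Perm (Fin 7)) :
    (Φ.mon ε σ)⁻¹ = Φ.mon (fun i => ε (σ i)) σ⁻¹ := by
  refine (eq_inv_of_mul_eq_one_left ?_).symm
  rw [Φ.mon_mul, inv_mul_cancel]
  have : (fun i => ε (σ i) * ε (σ⁻¹⁻¹ i)) = 1 := funext fun i => by simp [Int.units_mul_self]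
  rw [this, Φ.mon_one]

theorem Frame.mon_injective {ε ε' : Fin 7 → ℤˣ} {σ σ' : Perm (Fin 7)} (h : Φ.mon ε σ = Φ.mon ε' σ') :
    ε = ε' ∧ σ = σ' := by
  have h1 := mul_inv_eq_one.2 h
  rw [Φ.mon_inv, Φ.mon_mul] at h1
  obtain ⟨he, hs⟩ := Φ.inj _ _ h1
  have hσ : σ = σ' := mul_inv_eq_one.1 hs
  subst hσ
  refine ⟨funext fun i => ?_, rfl⟩
  have := congrFun he i
  simp at this
  rwa [mul_eq_one_iff_eq_inv, Int.units_inv_eq_self] at this

/-- The candidate for a Sylow two-subgroup. -/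
def Frame.twoSub : Subgroup O where
  carrier := {g | ∃ ε σ, ε ∈ evenVec ∧ σ ∈ P ∧ g = Φ.mon ε σ}
  mul_mem' := by
    rintro _ _ ⟨ε, σ, hε, hσ, rfl⟩ ⟨ε', σ', hε', hσ', rfl⟩
    exact ⟨_, _, mul_mem hε (comp_mem_evenVec hε' σ⁻¹), mul_mem hσ hσ', Φ.mon_mul ε ε' σ σ'⟩
  one_mem' := ⟨1, 1, one_mem _, one_mem _, Φ.mon_one.symm⟩
  inv_mem' := by
    rintro _ ⟨ε, σ, hε, hσ, rfl⟩
    exact ⟨_, _, comp_mem_evenVec hε σ, inv_mem hσ, Φ.mon_inv ε σ⟩

theorem Frame.natCard_twoSub : Nat.card Φ.twoSub = 2 ^ 9 := by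
  rw [show (2 : ℕ) ^ 9 = 64 * 8 by norm_num, ← natCard_evenVec, ← natCard_P, ← Nat.card_prod]
  refine (Nat.card_eq_of_bijective (fun x : evenVec × P =>
    (⟨Φ.mon x.1.1 x.2.1, x.1.1, x.2.1, x.1.2, x.2.2, rfl⟩ : Φ.twoSub)) ⟨fun x y h => ?_, ?_⟩).symm
  · obtain ⟨h1, h2⟩ := Φ.mon_injective (congrArg Subtype.val h)
    exact Prod.ext (Subtype.ext h1) (Subtype.ext h2)
  · rintro ⟨_, ε, σ, hε, hσ, rfl⟩
    exact ⟨(⟨ε, hε⟩, ⟨σ, hσ⟩), rfl⟩

theorem Frame.delta_mem_twoSub {ε : Fin 7 → ℤˣ} (h : ε ∈ evenVec) : Φ.δ ε ∈ Φ.twoSub :=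
  ⟨ε, 1, h, one_mem _, by simp [Frame.mon]⟩

theorem Frame.psi_mem_twoSub {σ : Perm (Fin 7)} (h : σ ∈ P) : Φ.ψ σ ∈ Φ.twoSub :=
  ⟨1, σ, one_mem _, h, by simp [Frame.mon]⟩

/-- The sign change at two coordinates. -/
def pairVec (i j : Fin 7) : Fin 7 → ℤˣ := Pi.mulSingle i (-1) * Pi.mulSingle j (-1)

theorem Frame.psi_mem_commutator {σ : Perm (Fin 7)} (h : σ ∈ alternatingGroup (Fin 7)) :
    Φ.ψ σ ∈ commutator O := by
  rw [← alternatingGroup.commutator_perm_eq (α := Fin 7) (by simp)] at h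
  have := Subgroup.mem_map_of_mem Φ.ψ h
  rw [commutator_def, Subgroup.map_commutator] at this
  exact Subgroup.commutator_mono le_top le_top this

theorem Frame.pairVec_mem_commutator {i j : Fin 7} (hij : i ≠ j) : Φ.δ (pairVec i j) ∈ commutator O := by
  have h := Subgroup.commutator_mem_commutator (Subgroup.mem_top (Φ.δ (Pi.mulSingle i (-1))))
    (Subgroup.mem_top (Φ.ψ (swap i j)))
  rw [← commutator_def, commutatorElement_def] at h
  have e : (fun x => (Pi.mulSingle i (-1) : Fin 7 → ℤˣ)⁻¹ ((swap i j)⁻¹ x)) = Pi.mulSingle j (-1) := by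
    funext x
    rw [swap_inv, Pi.inv_apply, Int.units_inv_eq_self]
    rcases eq_or_ne x j with rfl | hj
    · simp
    · rw [Pi.mulSingle_eq_of_ne hj]
      rcases eq_or_ne x i with rfl | hi
      · simp [hij.symm]
      · rw [swap_apply_of_ne_of_ne hi hj, Pi.mulSingle_eq_of_ne hi]
  have h' := Φ.rel (Pi.mulSingle i (-1))⁻¹ (swap i j)
  rw [e, map_inv] at h'
  rw [show ∀ a b c d : O, a * b * c * d = a * (b * c * d) from fun a b c d => by group, h', ← map_mul] at h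
  exact h

theorem Frame.delta_mem_commutator {ε : Fin 7 → ℤˣ} (h : ε ∈ evenVec) : Φ.δ ε ∈ commutator O := by
  have hsplit : ε = ∏ i, (Pi.mulSingle i (ε i) * Pi.mulSingle 0 (ε i)) := by
    rw [Finset.prod_mul_distrib, Finset.univ_prod_mulSingle]
    have : ∏ i, (Pi.mulSingle (0 : Fin 7) (ε i) : Fin 7 → ℤˣ) = Pi.mulSingle 0 (∏ i, ε i) :=
      (map_prod (MonoidHom.mulSingle (fun _ : Fin 7 => ℤˣ) 0) ε Finset.univ).symm
    rw [this, mem_evenVec.1 h, Pi.mulSingle_one, mul_one]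
  show ε ∈ (commutator O).comap Φ.δ
  rw [hsplit]
  refine Subgroup.prod_mem _ fun i _ => ?_
  rcases Int.units_eq_one_or (ε i) with e | e <;> rw [e]
  · simp
  rcases eq_or_ne i 0 with rfl | hi
  · rw [← Pi.mulSingle_mul]; simp
  · exact Φ.pairVec_mem_commutator hi

theorem Frame.twoSub_le : Φ.twoSub ≤ commutator O := by
  rintro _ ⟨ε, σ, hε, hσ, rfl⟩
  exact mul_mem (Φ.delta_mem_commutator hε) (Φ.psi_mem_commutator (P_le_alternating hσ))

/-- An element normalising the two-group permutes the even sign vectors. -/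
theorem Frame.conj_delta {g : O} (hg : ∀ x ∈ Φ.twoSub, g * x * g⁻¹ ∈ Φ.twoSub) {ε : Fin 7 → ℤˣ}
    (hε : ε ∈ evenVec) : ∃ ε', g * Φ.δ ε * g⁻¹ = Φ.δ ε' := by
  choose a s ha hs he using fun x : evenVec => hg _ (Φ.delta_mem_twoSub x.2)
  have hmul : ∀ x y : evenVec, a (x * y) = (fun i => a x i * a y ((s x)⁻¹ i)) ∧ s (x * y) = s x * s y := by
    intro x y
    apply Φ.mon_injective
    rw [← Φ.mon_mul, ← he, ← he, ← he, Subgroup.coe_mul, map_mul]
    group
  let hom : evenVec →* Perm (Fin 7) := MonoidHom.mk' s fun x y => (hmul x y).2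
  suffices hall : ∀ x, s x = 1 by
    exact ⟨a ⟨ε, hε⟩, by rw [he ⟨ε, hε⟩, hall, Frame.mon, map_one, mul_one]⟩
  by_contra hne
  obtain ⟨x₁, hx₁⟩ := not_forall.1 hne
  have hcomm : ∀ x y : evenVec, s x * s y = s y * s x := fun x y => by
    rw [← (hmul x y).2, ← (hmul y x).2, mul_comm]
  have hsq : ∀ x : evenVec, s x * s x = 1 := fun x => by
    rw [← (hmul x x).2, show x * x = 1 from Subtype.ext (funext fun i => Int.units_mul_self _)]
    exact (map_one hom)
  have hfix : ∀ k : hom.ker, ∀ x : evenVec, ∀ i, a k.1 ((s x) i) = a k.1 i := by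
    intro k x i
    have hk : s k.1 = 1 := k.2
    have h1 := (hmul k.1 x).1
    have h2 := (hmul x k.1).1
    rw [mul_comm x k.1, h1, hk, inv_one] at h2
    have h3 := congrFun h2 (s x i)
    simp at h3
    rw [mul_comm] at h3
    exact mul_left_cancel h3
  have hinj : ∀ k k' : hom.ker, a k.1 = a k'.1 → k = k' := by
    intro k k' h
    have hh : Φ.mon (a k.1) (s k.1) = Φ.mon (a k'.1) (s k'.1) := by
      rw [h, show s k.1 = 1 from k.2, show s k'.1 = 1 from k'.2]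
    rw [← he, ← he] at hh
    have := mul_left_cancel (mul_right_cancel hh)
    refine Subtype.ext (Subtype.ext ?_)
    have h' : Φ.mon k.1.1 1 = Φ.mon k'.1.1 1 := by simp [Frame.mon, this]
    exact (Φ.mon_injective h').1
  have hidx : Nat.card hom.ker * Nat.card hom.range = 64 := by
    rw [← natCard_evenVec, ← Subgroup.card_mul_index hom.ker, Subgroup.index_ker]
  have hrange : hom.range ≤ P := by
    rintro _ ⟨x, rfl⟩
    exact hs x
  obtain ⟨i, hi⟩ := mem_P.1 (hs x₁)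
  have hi0 : i ≠ 0 := fun e => hx₁ (by rw [← hi, e, pm_zero])
  have hiinv : ∀ x, pm i (pm i x) = x := fun x => by rw [hi, ← Perm.mul_apply, hsq, Perm.one_apply]
  by_cases htwo : ∀ x, s x = 1 ∨ s x = s x₁
  · obtain ⟨r, hr⟩ := fixed_one hi0 hiinv
    have h16 : Nat.card hom.ker ≤ 16 := by
      refine le_trans (Nat.card_le_card_of_injective (fun k : hom.ker => fun j => a k.1 (r j)) fun k k' h => ?_) ?_
      · refine hinj k k' (hr _ _ ?_ ?_ (ha k.1) (ha k'.1) (congrFun h))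
        · intro x; rw [hi]; exact hfix k x₁ x
        · intro x; rw [hi]; exact hfix k' x₁ x
      · simp
    have h2 : Nat.card hom.range ≤ 2 := by
      rw [show Nat.card hom.range = Nat.card (hom.range : Set (Perm (Fin 7))) from rfl, Nat.card_coe_set_eq]
      refine le_trans (Set.ncard_le_ncard (?_ : _ ⊆ ({1, s x₁} : Set (Perm (Fin 7))))) ?_
      · rintro _ ⟨x, rfl⟩
        exact htwo x
      · exact (Set.ncard_insert_le _ _).trans (by simp)
    nlinarith
  · obtain ⟨x₂, hx₂⟩ := not_forall.1 htwo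
    rw [not_or] at hx₂
    obtain ⟨k, hk⟩ := mem_P.1 (hs x₂)
    have hk0 : k ≠ 0 := fun e => hx₂.1 (by rw [← hk, e, pm_zero])
    have hkinv : ∀ x, pm k (pm k x) = x := fun x => by rw [hk, ← Perm.mul_apply, hsq, Perm.one_apply]
    have hik : i ≠ k := fun e => hx₂.2 (by rw [← hk, ← e, hi])
    obtain ⟨r, hr⟩ := fixed_two hi0 hk0 hik hiinv hkinv
      (fun x => by rw [hi, hk, ← Perm.mul_apply, ← Perm.mul_apply, hcomm])
    have h8 : Nat.card hom.ker ≤ 8 := by
      refine le_trans (Nat.card_le_card_of_injective (fun k' : hom.ker => fun j => a k'.1 (r j)) fun k₁ k₂ h => ?_) ?_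
      · refine hinj k₁ k₂ (hr _ _ ?_ ?_ ?_ ?_ (ha k₁.1) (ha k₂.1) (congrFun h)) <;> intro x
        · rw [hi]; exact hfix k₁ x₁ x
        · rw [hk]; exact hfix k₁ x₂ x
        · rw [hi]; exact hfix k₂ x₁ x
        · rw [hk]; exact hfix k₂ x₂ x
      · simp
    have h7 : Nat.card hom.range ≤ 7 := by
      have hle := Subgroup.card_le_of_le hrange
      rw [natCard_P] at hle
      by_contra h'
      have heq : hom.range = P := Subgroup.eq_of_le_of_card_ge hrange (by rw [natCard_P]; omega)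
      obtain ⟨σ, hσ, τ, hτ, hne'⟩ := not_comm
      rw [← heq] at hσ hτ
      obtain ⟨y, rfl⟩ := hσ
      obtain ⟨z, rfl⟩ := hτ
      exact hne' (hcomm y z)
    nlinarith

variable [Finite O]

/-- The Sylow two-subgroup of the derived group. -/
noncomputable def Frame.sylow (hcard : (Nat.card (commutator O)).factorization 2 = 9) : Sylow 2 (commutator O) :=
  Sylow.ofCard (Φ.twoSub.subgroupOf (commutator O)) (by
    rw [Nat.card_congr (Subgroup.subgroupOfEquivOfLe Φ.twoSub_le).toEquiv, Φ.natCard_twoSub, hcard])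

theorem Frame.mem_sylow (hcard : (Nat.card (commutator O)).factorization 2 = 9) {x : commutator O} :
    x ∈ (Φ.sylow hcard : Subgroup (commutator O)) ↔ (x : O) ∈ Φ.twoSub := Iff.rfl

theorem Frame.normalizer_le (hcard : (Nat.card (commutator O)).factorization 2 = 9) :
    Subgroup.normalizer ((Φ.sylow hcard : Subgroup (commutator O)) : Set (commutator O)) ≤ Φ.sylow hcard := by
  intro g hg
  have hgU : ∀ x ∈ Φ.twoSub, (g : O) * x * (g : O)⁻¹ ∈ Φ.twoSub := fun x hx =>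
    (Subgroup.mem_normalizer_iff.1 hg ⟨x, Φ.twoSub_le hx⟩).1 hx
  obtain ⟨ε, σ, hgm⟩ := Φ.recog (g : O) fun η hη => Φ.conj_delta hgU hη
  have hnorm : ∀ i, σ * pm i * σ⁻¹ ∈ P := by
    intro i
    obtain ⟨η, τ, -, hτ, hx⟩ := hgU _ (Φ.psi_mem_twoSub ⟨i, rfl⟩)
    rw [hgm, show Φ.δ ε * Φ.ψ σ = Φ.mon ε σ from rfl, show Φ.ψ (pm i) = Φ.mon 1 (pm i) by simp [Frame.mon],
      Φ.mon_inv, Φ.mon_mul, Φ.mon_mul] at hx
    rw [(Φ.mon_injective hx).2]
    exact hτ
  have hσ := pow_four_of_normalizes hnorm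
  have hpow : ∀ n : ℕ, ∃ η, (g : O) ^ n = Φ.mon η (σ ^ n) := by
    intro n
    induction n with
    | zero => exact ⟨1, by rw [pow_zero, pow_zero, Φ.mon_one]⟩
    | succ n ih =>
      obtain ⟨η, hη⟩ := ih
      exact ⟨_, by rw [pow_succ, hη, hgm, show Φ.δ ε * Φ.ψ σ = Φ.mon ε σ from rfl, Φ.mon_mul, ← pow_succ]⟩
  obtain ⟨η, hη⟩ := hpow 4
  rw [hσ] at hη
  have h8 : g ^ 8 = 1 := Subtype.ext (by
    rw [SubmonoidClass.coe_pow, show (8 : ℕ) = 4 + 4 from rfl, pow_add, hη, Φ.mon_mul, one_mul, OneMemClass.coe_one,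
      ← Φ.mon_one]
    congr 1
    funext i
    simp [Int.units_mul_self])
  have hp : IsPGroup 2 (Subgroup.zpowers g) := by
    have hd : orderOf g ∣ 2 ^ 3 := orderOf_dvd_of_pow_eq_one h8
    obtain ⟨k, -, hk⟩ := (Nat.dvd_prime_pow Nat.prime_two).1 hd
    exact IsPGroup.of_card (n := k) (by rw [Nat.card_zpowers, hk])
  have hsup := hp.to_sup_of_normal_right' (Φ.sylow hcard).isPGroup' (Subgroup.zpowers_le.2 hg)
  have := (Φ.sylow hcard).is_maximal' hsup le_sup_right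
  rw [← this]
  exact le_sup_left (a := Subgroup.zpowers g) (Subgroup.mem_zpowers g)

theorem Frame.closed (hcard : (Nat.card (commutator O)).factorization 2 = 9) (T : Subgroup (commutator O))
    (hT : FusionSimple.Closed (Φ.sylow hcard : Subgroup (commutator O)) T) :
    T = ⊥ ∨ T = (Φ.sylow hcard : Subgroup (commutator O)) := by
  rcases eq_or_ne T ⊥ with hbot | hbot
  · exact Or.inl hbot
  refine Or.inr (le_antisymm hT.1 ?_)
  -- elements of the frame in the derived group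
  have hcl : ∀ (x : O) (hx : x ∈ commutator O), (⟨x, hx⟩ : commutator O) ∈ T → ∀ h : O, h ∈ commutator O →
      h * x * h⁻¹ ∈ Φ.twoSub → ∀ h' : h * x * h⁻¹ ∈ commutator O, (⟨_, h'⟩ : commutator O) ∈ T := fun x hx hxT h hh hU h' =>
    hT.2 ⟨x, hx⟩ hxT ⟨h, hh⟩ hU
  -- a nontrivial sign vector
  obtain ⟨ε₀, hε₀, hε₀ne, hε₀T⟩ : ∃ ε, ∃ h : ε ∈ evenVec, ε ≠ 1 ∧
      (⟨Φ.δ ε, Φ.delta_mem_commutator h⟩ : commutator O) ∈ T := by
    obtain ⟨⟨x, hxc⟩, hxT, hx1⟩ := (Subgroup.bot_or_exists_ne_one T).resolve_left hbot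
    obtain ⟨ε, σ, hε, hσ, rfl⟩ := hT.1 hxT
    by_cases hσ1 : σ = 1
    · subst hσ1
      refine ⟨ε, hε, fun e => hx1 (Subtype.ext ?_), ?_⟩
      · simp [Frame.mon, e]
      · convert hxT using 2; simp [Frame.mon]
    · obtain ⟨η, hη, hne⟩ : ∃ η, η ∈ evenVec ∧ (fun i => η (σ⁻¹ i) * η i) ≠ 1 := by
        obtain ⟨i, hi⟩ : ∃ i, σ⁻¹ i ≠ i := by
          by_contra h
          exact hσ1 (inv_eq_one.1 (Equiv.ext fun i => not_not.1 fun e => h ⟨i, e⟩))
        obtain ⟨l, hl1, hl2⟩ : ∃ l : Fin 7, l ≠ i ∧ l ≠ σ⁻¹ i := by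
          have : ∀ a b : Fin 7, ∃ l, l ≠ a ∧ l ≠ b := by decide +kernel
          exact this _ _
        refine ⟨pairVec i l, ?_, fun e => ?_⟩
        · show ∏ x, ((Pi.mulSingle i (-1) : Fin 7 → ℤˣ) x * (Pi.mulSingle l (-1) : Fin 7 → ℤˣ) x) = 1
          rw [Finset.prod_mul_distrib, Fintype.prod_pi_mulSingle', Fintype.prod_pi_mulSingle']
          decide
        · have := congrFun e i
          simp only [pairVec, Pi.mul_apply, Pi.one_apply] at this
          rw [Pi.mulSingle_eq_of_ne hi, Pi.mulSingle_eq_of_ne hl2.symm, Pi.mulSingle_eq_same,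
            Pi.mulSingle_eq_of_ne hl1.symm] at this
          exact absurd this (by decide)
      refine ⟨fun i => η (σ⁻¹ i) * η i, mul_mem (comp_mem_evenVec hη σ⁻¹) hη, hne, ?_⟩
      have hconj := hcl _ hxc hxT (Φ.δ η) (Φ.delta_mem_commutator hη)
        (mul_mem (mul_mem (Φ.delta_mem_twoSub hη) ⟨ε, σ, hε, hσ, rfl⟩) (inv_mem (Φ.delta_mem_twoSub hη)))
        (mul_mem (mul_mem (Φ.delta_mem_commutator hη) hxc) (inv_mem (Φ.delta_mem_commutator hη)))
      have hprod := T.mul_mem hconj (T.inv_mem hxT)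
      convert hprod using 1
      refine Subtype.ext ?_
      show Φ.δ (fun i => η (σ⁻¹ i) * η i) = Φ.δ η * Φ.mon ε σ * (Φ.δ η)⁻¹ * (Φ.mon ε σ)⁻¹
      have hrel := Φ.rel η⁻¹ σ
      rw [map_inv] at hrel
      have hu : ∀ z : Fin 7 → ℤˣ, z⁻¹ = z := fun z => funext fun i => Int.units_inv_eq_self _
      calc Φ.δ (fun i => η (σ⁻¹ i) * η i) = Φ.δ η * (Φ.δ ε * Φ.δ (fun i => η⁻¹ (σ⁻¹ i)) * (Φ.δ ε)⁻¹) := by
            rw [← map_inv, ← map_mul, ← map_mul, ← map_mul]
            congr 1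
            funext i
            simp only [Pi.mul_apply, Pi.inv_apply, Int.units_inv_eq_self]
            rw [mul_comm (ε i * η (σ⁻¹ i)) (ε i), ← mul_assoc (ε i), Int.units_mul_self, one_mul, mul_comm]
        _ = _ := by
            rw [← hrel, Frame.mon]; group
  -- all of the sign vectors
  have hsigns : ∀ (ε : Fin 7 → ℤˣ) (h : ε ∈ evenVec), (⟨Φ.δ ε, Φ.delta_mem_commutator h⟩ : commutator O) ∈ T := by
    let D : Subgroup (Fin 7 → ℤˣ) :=
      { carrier := {ε | ∃ h : ε ∈ evenVec, (⟨Φ.δ ε, Φ.delta_mem_commutator h⟩ : commutator O) ∈ T}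
        mul_mem' := by
          rintro x y ⟨hx, hxT⟩ ⟨hy, hyT⟩
          refine ⟨mul_mem hx hy, ?_⟩
          convert T.mul_mem hxT hyT using 1
          exact Subtype.ext (map_mul Φ.δ x y)
        one_mem' := ⟨one_mem _, by convert T.one_mem using 1; exact Subtype.ext (map_one Φ.δ)⟩
        inv_mem' := by
          rintro x ⟨hx, hxT⟩
          refine ⟨inv_mem hx, ?_⟩
          convert T.inv_mem hxT using 1
          exact Subtype.ext (map_inv Φ.δ x) }
    have hperm : ∀ z ∈ D, ∀ τ ∈ alternatingGroup (Fin 7), (fun i => z (τ⁻¹ i)) ∈ D := by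
      rintro z ⟨hz, hzT⟩ τ hτ
      refine ⟨comp_mem_evenVec hz τ⁻¹, ?_⟩
      have hU : Φ.ψ τ * Φ.δ z * (Φ.ψ τ)⁻¹ ∈ Φ.twoSub := by
        rw [Φ.rel]; exact Φ.delta_mem_twoSub (comp_mem_evenVec hz τ⁻¹)
      have := hcl _ _ hzT _ (Φ.psi_mem_commutator hτ) hU (Φ.twoSub_le hU)
      convert this using 2
      exact (Φ.rel z τ).symm
    have hcyc : ∀ a b c : Fin 7, a ≠ b → a ≠ c → b ≠ c → swap a b * swap b c ∈ alternatingGroup (Fin 7) := by
      intro a b c hab _ hbc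
      rw [Equiv.Perm.mem_alternatingGroup, map_mul, Perm.sign_swap hab, Perm.sign_swap hbc]
      decide
    have hD0 : ε₀ ∈ D := ⟨hε₀, hε₀T⟩
    -- a vector with two signs
    obtain ⟨a, b, hab, habD⟩ : ∃ a b, a ≠ b ∧ pairVec a b ∈ D := by
      obtain ⟨i, hi⟩ : ∃ i, ε₀ i ≠ 1 := Function.ne_iff.1 hε₀ne
      obtain ⟨j, hj⟩ : ∃ j, ε₀ j = 1 := by
        by_contra h
        have hall : ∀ j, ε₀ j = -1 := fun j => (Int.units_eq_one_or _).resolve_left fun e => h ⟨j, e⟩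
        have hp := mem_evenVec.1 hε₀
        rw [Finset.prod_congr rfl fun j _ => hall j] at hp
        exact absurd hp (by decide)
      have hij : i ≠ j := fun e => hi (e ▸ hj)
      obtain ⟨k, hki, hkj⟩ : ∃ k : Fin 7, k ≠ i ∧ k ≠ j := by
        have : ∀ a b : Fin 7, ∃ l, l ≠ a ∧ l ≠ b := by decide +kernel
        exact this _ _
      have hiv : ε₀ i = -1 := (Int.units_eq_one_or _).resolve_left hi
      have hmem := mul_mem hD0 (hperm _ hD0 _ (hcyc i j k hij hki.symm hkj.symm))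
      have hval : ∀ x, (ε₀ * fun x => ε₀ ((swap i j * swap j k)⁻¹ x)) x = ε₀ x * ε₀ (swap j k (swap i j x)) :=
        fun x => by simp [mul_inv_rev]
      rcases Int.units_eq_one_or (ε₀ k) with hk | hk
      · refine ⟨i, j, hij, ?_⟩
        convert hmem using 1
        funext x
        rw [hval, pairVec, Pi.mul_apply]
        rcases eq_or_ne x i with rfl | hxi
        · simp [swap_apply_left, hij, hiv, hk, hj]
        rcases eq_or_ne x j with rfl | hxj
        · simp [swap_apply_right, swap_apply_of_ne_of_ne hij hki.symm, hij.symm, hiv, hj]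
        rw [swap_apply_of_ne_of_ne hxi hxj, Pi.mulSingle_eq_of_ne hxi, Pi.mulSingle_eq_of_ne hxj]
        rcases eq_or_ne x k with rfl | hxk
        · simp [hk, hj]
        · rw [swap_apply_of_ne_of_ne hxj hxk]; simp [Int.units_mul_self]
      · refine ⟨j, k, hkj.symm, ?_⟩
        convert hmem using 1
        funext x
        rw [hval, pairVec, Pi.mul_apply]
        rcases eq_or_ne x i with rfl | hxi
        · simp [swap_apply_left, hij, hki.symm, hiv, hk]
        rcases eq_or_ne x j with rfl | hxj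
        · simp [swap_apply_right, swap_apply_of_ne_of_ne hij hki.symm, hkj.symm, hiv, hj]
        rw [swap_apply_of_ne_of_ne hxi hxj]
        rcases eq_or_ne x k with rfl | hxk
        · simp [hk, hj, hkj]
        · rw [swap_apply_of_ne_of_ne hxj hxk]; simp [Int.units_mul_self, hxj, hxk]
    have hsym : ∀ x y, pairVec x y = pairVec y x := fun x y => mul_comm _ _
    have hstep : ∀ x y z, x ≠ y → x ≠ z → y ≠ z → pairVec x y ∈ D → pairVec y z ∈ D := by
      intro x y z hxy hxz hyz h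
      convert hperm _ h _ (hcyc x y z hxy hxz hyz) using 1
      funext w
      simp only [pairVec, Pi.mul_apply, mul_inv_rev, swap_inv, Perm.mul_apply]
      rcases eq_or_ne w y with rfl | hwy
      · simp [swap_apply_right, swap_apply_of_ne_of_ne hxy hxz, hxy, hyz]
      rcases eq_or_ne w z with rfl | hwz
      · simp [swap_apply_of_ne_of_ne hxz.symm hyz.symm, swap_apply_right, hxy.symm, hyz.symm]
      rcases eq_or_ne w x with rfl | hwx
      · simp [swap_apply_left, hxy, hxz, hyz.symm, hxz.symm]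
      · simp [swap_apply_of_ne_of_ne hwx hwy, swap_apply_of_ne_of_ne hwy hwz, hwx, hwy, hwz]
    have hrow : ∀ y, y ≠ a → y ≠ b → pairVec b y ∈ D := fun y hya hyb => hstep a b y hab hya.symm hyb.symm habD
    have hbrow : ∀ y, y ≠ b → pairVec b y ∈ D := fun y hyb => by
      rcases eq_or_ne y a with rfl | hya
      · rw [hsym]; exact habD
      · exact hrow y hya hyb
    have hzero : ∀ x y, x ≠ y → pairVec x y ∈ D := by
      intro x y hxy
      rcases eq_or_ne x b with rfl | hxb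
      · exact hbrow y hxy.symm
      rcases eq_or_ne y b with rfl | hyb
      · rw [hsym]; exact hbrow x hxy
      · exact hstep b x y hxb.symm hyb.symm hxy (hbrow x hxb)
    intro ε h
    suffices ε ∈ D from this.2
    have hsplit : ε = ∏ i, (Pi.mulSingle i (ε i) * Pi.mulSingle 0 (ε i)) := by
      rw [Finset.prod_mul_distrib, Finset.univ_prod_mulSingle]
      have : ∏ i, (Pi.mulSingle (0 : Fin 7) (ε i) : Fin 7 → ℤˣ) = Pi.mulSingle 0 (∏ i, ε i) :=
        (map_prod (MonoidHom.mulSingle (fun _ : Fin 7 => ℤˣ) 0) ε Finset.univ).symm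
      rw [this, mem_evenVec.1 h, Pi.mulSingle_one, mul_one]
    rw [hsplit]
    refine Subgroup.prod_mem _ fun i _ => ?_
    rcases Int.units_eq_one_or (ε i) with e | e <;> rw [e]
    · simp
    rcases eq_or_ne i 0 with rfl | hi
    · rw [← Pi.mulSingle_mul]; simp
    · exact hzero i 0 hi
  -- the permutations
  have hpsi : ∀ (ε : Fin 7 → ℤˣ) (σ : Perm (Fin 7)) (hε : ε ∈ evenVec) (hσ : σ ∈ P),
      ((⟨Φ.mon ε σ, Φ.twoSub_le ⟨ε, σ, hε, hσ, rfl⟩⟩ : commutator O) ∈ T ↔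
        (⟨Φ.ψ σ, Φ.psi_mem_commutator (P_le_alternating hσ)⟩ : commutator O) ∈ T) := by
    intro ε σ hε hσ
    rw [← T.mul_mem_cancel_left (hsigns ε hε)
      (y := (⟨Φ.ψ σ, Φ.psi_mem_commutator (P_le_alternating hσ)⟩ : commutator O))]
    rfl
  let R : Subgroup (Perm (Fin 7)) :=
    { carrier := {σ | ∃ h : σ ∈ P, (⟨Φ.ψ σ, Φ.psi_mem_commutator (P_le_alternating h)⟩ : commutator O) ∈ T}
      mul_mem' := by
        rintro x y ⟨hx, hxT⟩ ⟨hy, hyT⟩
        refine ⟨mul_mem hx hy, ?_⟩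
        convert T.mul_mem hxT hyT using 1
        exact Subtype.ext (map_mul Φ.ψ x y)
      one_mem' := ⟨one_mem _, by convert T.one_mem using 1; exact Subtype.ext (map_one Φ.ψ)⟩
      inv_mem' := by
        rintro x ⟨hx, hxT⟩
        refine ⟨inv_mem hx, ?_⟩
        convert T.inv_mem hxT using 1
        exact Subtype.ext (map_inv Φ.ψ x) }
  suffices hR : P ≤ R by
    rintro ⟨x, hx⟩ hxU
    obtain ⟨ε, σ, hε, hσ, rfl⟩ := hxU
    exact (hpsi ε σ hε hσ).2 (hR hσ).2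
  have h13 : pairVec 1 3 ∈ evenVec := by
    show ∏ x, pairVec 1 3 x = 1
    decide
  have h1 : pm 1 ∈ R := by
    obtain ⟨h, hh, he⟩ := Φ.fuse
    have hU : h * Φ.δ (pairVec 1 3) * h⁻¹ ∈ Φ.twoSub := by
      rw [show Φ.δ (pairVec 1 3) = Φ.δ (Pi.mulSingle 1 (-1) * Pi.mulSingle 3 (-1)) from rfl, he]
      exact Φ.psi_mem_twoSub ⟨1, rfl⟩
    refine ⟨⟨1, rfl⟩, ?_⟩
    convert hcl _ _ (hsigns _ h13) h hh hU (Φ.twoSub_le hU) using 2
    exact he.symm
  have hinv : ∀ i : Fin 8, (∀ x, pm i (pm i x) = x) → pm i ∈ R := by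
    intro i hi
    rcases eq_or_ne i 0 with rfl | hi0
    · rw [pm_zero]; exact one_mem R
    obtain ⟨τ, hτ, hτe⟩ := exists_conj hi0 hi
    obtain ⟨h1P, h1T⟩ := h1
    have hconj : Φ.ψ τ * Φ.ψ (pm 1) * (Φ.ψ τ)⁻¹ = Φ.ψ (pm i) := by
      rw [← map_inv, ← map_mul, ← map_mul, hτe]
    have hU : Φ.ψ τ * Φ.ψ (pm 1) * (Φ.ψ τ)⁻¹ ∈ Φ.twoSub := hconj ▸ Φ.psi_mem_twoSub ⟨i, rfl⟩
    refine ⟨⟨i, rfl⟩, ?_⟩
    convert hcl _ _ h1T _ (Φ.psi_mem_commutator hτ) hU (Φ.twoSub_le hU) using 2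
    exact hconj.symm
  rintro _ ⟨i, rfl⟩
  obtain ⟨j, k, hj, hk, he⟩ := exists_involution_pair i
  rw [show pm i = pm j * pm k from Equiv.ext he]
  exact mul_mem (hinv j hj) (hinv k hk)

end CfsgLib.OmegaSevenTwo
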