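import Mathlib

/-!
# A Sylow two-subgroup of the alternating group on seven points

Eight explicit permutations, their fixed sign vectors, and the permutations normalising them.
-/

set_option autoImplicit false

namespace CfsgLib.OmegaSevenTwo

open Equiv

/-- A permutation given by a table and the table of its inverse. -/
def tbl (f g : Fin 7 → Fin 7) (h : ∀ i, g (f i) = i ∧ f (g i) = i) : Perm (Fin 7) :=
  ⟨f, g, fun i => (h i).1, fun i => (h i).2⟩

/-- The eight elements. -/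
def pm : Fin 8 → Perm (Fin 7) :=
  ![1,
    tbl ![1, 0, 3, 2, 4, 5, 6] ![1, 0, 3, 2, 4, 5, 6] (by decide),
    tbl ![2, 3, 0, 1, 4, 5, 6] ![2, 3, 0, 1, 4, 5, 6] (by decide),
    tbl ![3, 2, 1, 0, 4, 5, 6] ![3, 2, 1, 0, 4, 5, 6] (by decide),
    tbl ![1, 0, 2, 3, 5, 4, 6] ![1, 0, 2, 3, 5, 4, 6] (by decide),
    tbl ![0, 1, 3, 2, 5, 4, 6] ![0, 1, 3, 2, 5, 4, 6] (by decide),
    tbl ![3, 2, 0, 1, 5, 4, 6] ![2, 3, 1, 0, 5, 4, 6] (by decide),
    tbl ![2, 3, 1, 0, 5, 4, 6] ![3, 2, 0, 1, 5, 4, 6] (by decide)]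

/-- The table of an element. -/
def tab (i : Fin 8) : Fin 7 → Fin 7 := fun x => pm i x

theorem pm_zero : pm 0 = 1 := rfl

theorem exists_mul : ∀ i j : Fin 8, ∃ k : Fin 8, ∀ x, pm k x = pm i (pm j x) := by decide +kernel

theorem exists_inv : ∀ i : Fin 8, ∃ k : Fin 8, ∀ x, pm k (pm i x) = x := by decide +kernel

theorem pm_injective : Function.Injective pm := by
  have h : ∀ i j : Fin 8, (∀ x, pm i x = pm j x) → i = j := by decide +kernel
  exact fun i j hij => h i j fun x => by rw [hij]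

/-- The subgroup of order eight. -/
def P : Subgroup (Perm (Fin 7)) where
  carrier := Set.range pm
  mul_mem' := by
    rintro _ _ ⟨i, rfl⟩ ⟨j, rfl⟩
    obtain ⟨k, hk⟩ := exists_mul i j
    exact ⟨k, Equiv.ext fun x => by rw [hk, Perm.mul_apply]⟩
  one_mem' := ⟨0, rfl⟩
  inv_mem' := by
    rintro _ ⟨i, rfl⟩
    obtain ⟨k, hk⟩ := exists_inv i
    refine ⟨k, (inv_eq_of_mul_eq_one_left (Equiv.ext fun x => ?_)).symm⟩
    rw [Perm.mul_apply, hk, Perm.one_apply]

theorem mem_P {σ : Perm (Fin 7)} : σ ∈ P ↔ ∃ i, pm i = σ := Iff.rfl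

theorem natCard_P : Nat.card P = 8 := by
  rw [show Nat.card P = Nat.card (Set.range pm) from rfl, Nat.card_congr (Equiv.ofInjective pm pm_injective).symm]
  simp

theorem sign_pm : ∀ i : Fin 8, Perm.sign (pm i) = 1 := by
  have h : ∀ i : Fin 8, ∃ j k : Fin 8, ((∀ x, pm i x = pm j (pm k x)) ∧ (∀ x, pm j (pm j x) = x) ∧ (∀ x, pm k (pm k x) = x)) := by
    decide +kernel
  have h2 : ∀ i : Fin 8, (∀ x, pm i (pm i x) = x) → i = 0 ∨ ∃ a b c d : Fin 7, a ≠ b ∧ c ≠ d ∧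
      ∀ x, pm i x = swap a b (swap c d x) := by
    intro i hi
    match i with
    | 0 => exact Or.inl rfl
    | 1 => exact Or.inr ⟨0, 1, 2, 3, by decide, by decide, by decide⟩
    | 2 => exact Or.inr ⟨0, 2, 1, 3, by decide, by decide, by decide⟩
    | 3 => exact Or.inr ⟨0, 3, 1, 2, by decide, by decide, by decide⟩
    | 4 => exact Or.inr ⟨0, 1, 4, 5, by decide, by decide, by decide⟩
    | 5 => exact Or.inr ⟨2, 3, 4, 5, by decide, by decide, by decide⟩
    | 6 => exact absurd (hi 0) (by decide)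
    | 7 => exact absurd (hi 0) (by decide)
  have hs : ∀ i : Fin 8, (∀ x, pm i (pm i x) = x) → Perm.sign (pm i) = 1 := by
    intro i hi
    rcases h2 i hi with rfl | ⟨a, b, c, d, hab, hcd, he⟩
    · rw [pm_zero, map_one]
    · rw [show pm i = swap a b * swap c d from Equiv.ext he, map_mul, Perm.sign_swap hab, Perm.sign_swap hcd]
      decide
  intro i
  obtain ⟨j, k, he, hj, hk⟩ := h i
  rw [show pm i = pm j * pm k from Equiv.ext he, map_mul, hs j hj, hs k hk, one_mul]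

theorem P_le_alternating : P ≤ alternatingGroup (Fin 7) := by
  rintro _ ⟨i, rfl⟩
  exact sign_pm i

theorem not_comm : ∃ σ ∈ P, ∃ τ ∈ P, σ * τ ≠ τ * σ := by
  refine ⟨pm 2, ⟨2, rfl⟩, pm 4, ⟨4, rfl⟩, fun h => ?_⟩
  have := congrArg (fun e : Perm (Fin 7) => e 0) h
  exact absurd this (by decide)

/-- An involution determines a four-element set of coordinates of a fixed even sign vector. -/
theorem fixed_one {i : Fin 8} (hi : i ≠ 0) (hinv : ∀ x, pm i (pm i x) = x) :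
    ∃ r : Fin 4 → Fin 7, ∀ ε ε' : Fin 7 → ℤˣ, (∀ x, ε (pm i x) = ε x) → (∀ x, ε' (pm i x) = ε' x) →
      ∏ x, ε x = 1 → ∏ x, ε' x = 1 → (∀ j, ε (r j) = ε' (r j)) → ε = ε' := by
  have key : ∀ (r : Fin 4 → Fin 7) (o : Fin 7),
      (∀ x, x ≠ o → (∃ j, r j = x) ∨ ∃ j, r j = pm i x) →
      ∀ ε ε' : Fin 7 → ℤˣ, (∀ x, ε (pm i x) = ε x) → (∀ x, ε' (pm i x) = ε' x) →
      ∏ x, ε x = 1 → ∏ x, ε' x = 1 → (∀ j, ε (r j) = ε' (r j)) → ε = ε' := by
    intro r o ho ε ε' hf hf' hp hp' hr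
    have hoff : ∀ x, x ≠ o → ε x = ε' x := by
      intro x hx
      rcases ho x hx with ⟨j, hj⟩ | ⟨j, hj⟩
      · rw [← hj, hr]
      · rw [← hf x, ← hf' x, ← hj, hr]
    funext x
    by_cases hx : x = o
    · subst hx
      rw [← Finset.mul_prod_erase _ _ (Finset.mem_univ x)] at hp hp'
      rw [Finset.prod_congr rfl fun y hy => hoff y (Finset.ne_of_mem_erase hy)] at hp
      exact mul_right_cancel (hp.trans hp'.symm)
    · exact hoff x hx
  match i with
  | 0 => exact absurd rfl hi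
  | 1 => exact ⟨_, key ![0, 2, 4, 5] 6 (by decide)⟩
  | 2 => exact ⟨_, key ![0, 1, 4, 5] 6 (by decide)⟩
  | 3 => exact ⟨_, key ![0, 1, 4, 5] 6 (by decide)⟩
  | 4 => exact ⟨_, key ![0, 2, 3, 4] 6 (by decide)⟩
  | 5 => exact ⟨_, key ![0, 1, 2, 4] 6 (by decide)⟩
  | 6 => exact absurd (hinv 0) (by decide)
  | 7 => exact absurd (hinv 0) (by decide)

/-- Two commuting involutions leave at most three free coordinates. -/
theorem fixed_two {i k : Fin 8} (hi : i ≠ 0) (hk : k ≠ 0) (hik : i ≠ k)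
    (hinv : ∀ x, pm i (pm i x) = x) (hkinv : ∀ x, pm k (pm k x) = x) (hc : ∀ x, pm i (pm k x) = pm k (pm i x)) :
    ∃ r : Fin 3 → Fin 7, ∀ ε ε' : Fin 7 → ℤˣ, (∀ x, ε (pm i x) = ε x) → (∀ x, ε (pm k x) = ε x) →
      (∀ x, ε' (pm i x) = ε' x) → (∀ x, ε' (pm k x) = ε' x) →
      ∏ x, ε x = 1 → ∏ x, ε' x = 1 → (∀ j, ε (r j) = ε' (r j)) → ε = ε' := by
  have hcases : ∀ i k : Fin 8, i ≠ 0 → k ≠ 0 → i ≠ k → (∀ x, pm i (pm i x) = x) → (∀ x, pm k (pm k x) = x) →
      (∀ x, pm i (pm k x) = pm k (pm i x)) →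
      (∀ x : Fin 7, x ≠ 6 → ∃ j : Fin 3, ![0, 4, 5] j = x ∨ ![0, 4, 5] j = pm i x ∨ ![0, 4, 5] j = pm k x ∨
          ![0, 4, 5] j = pm i (pm k x)) ∨
      (∀ x : Fin 7, x ≠ 6 → ∃ j : Fin 3, ![0, 2, 4] j = x ∨ ![0, 2, 4] j = pm i x ∨ ![0, 2, 4] j = pm k x ∨
          ![0, 2, 4] j = pm i (pm k x)) := by
    decide +kernel
  have key : ∀ (r : Fin 3 → Fin 7),
      (∀ x : Fin 7, x ≠ 6 → ∃ j, r j = x ∨ r j = pm i x ∨ r j = pm k x ∨ r j = pm i (pm k x)) →
      ∀ ε ε' : Fin 7 → ℤˣ, (∀ x, ε (pm i x) = ε x) → (∀ x, ε (pm k x) = ε x) →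
      (∀ x, ε' (pm i x) = ε' x) → (∀ x, ε' (pm k x) = ε' x) →
      ∏ x, ε x = 1 → ∏ x, ε' x = 1 → (∀ j, ε (r j) = ε' (r j)) → ε = ε' := by
    intro r ho ε ε' hf hg hf' hg' hp hp' hr
    have hoff : ∀ x, x ≠ 6 → ε x = ε' x := by
      intro x hx
      obtain ⟨j, hj | hj | hj | hj⟩ := ho x hx
      · rw [← hj, hr]
      · rw [← hf x, ← hf' x, ← hj, hr]
      · rw [← hg x, ← hg' x, ← hj, hr]
      · rw [← hg x, ← hg' x, ← hf (pm k x), ← hf' (pm k x), ← hj, hr]
    funext x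
    by_cases hx : x = 6
    · subst hx
      rw [← Finset.mul_prod_erase _ _ (Finset.mem_univ (6 : Fin 7))] at hp hp'
      rw [Finset.prod_congr rfl fun y hy => hoff y (Finset.ne_of_mem_erase hy)] at hp
      exact mul_right_cancel (hp.trans hp'.symm)
    · exact hoff x hx
  rcases hcases i k hi hk hik hinv hkinv hc with h | h
  · exact ⟨_, key _ h⟩
  · exact ⟨_, key _ h⟩

/-- Conjugation witnesses for the involutions. -/
theorem exists_conj {i : Fin 8} (hi : i ≠ 0) (hinv : ∀ x, pm i (pm i x) = x) :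
    ∃ τ ∈ alternatingGroup (Fin 7), τ * pm 1 * τ⁻¹ = pm i := by
  have mk : ∀ τ : Perm (Fin 7), Perm.sign τ = 1 → (∀ x, τ (pm 1 x) = pm i (τ x)) →
      ∃ τ ∈ alternatingGroup (Fin 7), τ * pm 1 * τ⁻¹ = pm i := fun τ h1 h2 =>
    ⟨τ, h1, mul_inv_eq_iff_eq_mul.2 (Equiv.ext h2)⟩
  match i with
  | 0 => exact absurd rfl hi
  | 1 => exact mk 1 (map_one _) (fun x => rfl)
  | 2 => exact mk (swap 1 2 * swap 2 3) (by rw [map_mul, Perm.sign_swap (by decide), Perm.sign_swap (by decide)]; decide) (by decide)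
  | 3 => exact mk (swap 1 3 * swap 2 3) (by rw [map_mul, Perm.sign_swap (by decide), Perm.sign_swap (by decide)]; decide) (by decide)
  | 4 => exact mk (swap 2 4 * swap 3 5) (by rw [map_mul, Perm.sign_swap (by decide), Perm.sign_swap (by decide)]; decide) (by decide)
  | 5 => exact mk (swap 0 4 * swap 1 5) (by rw [map_mul, Perm.sign_swap (by decide), Perm.sign_swap (by decide)]; decide) (by decide)
  | 6 => exact absurd (hinv 0) (by decide)
  | 7 => exact absurd (hinv 0) (by decide)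

theorem exists_involution_pair : ∀ i : Fin 8, ∃ j k : Fin 8, (∀ x, pm j (pm j x) = x) ∧ (∀ x, pm k (pm k x) = x) ∧
    ∀ x, pm i x = pm j (pm k x) := by
  decide +kernel

theorem exists_involution_power : ∀ i : Fin 8, i ≠ 0 → (∀ x, pm i (pm i x) = x) ∨
    ∀ x, pm i (pm i x) = pm 1 x := by
  decide +kernel

theorem pow_four_table : ∀ x0 : Fin 7, tab 1 x0 ≠ x0 → ∀ x2 : Fin 7, tab 1 x2 ≠ x2 → x2 ≠ x0 → x2 ≠ tab 1 x0 →
    (∀ i : Fin 7, (![x0, tab 1 x0, x2, tab 1 x2, 4, 5, 6])^[4] i = i) ∧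
    (∀ i : Fin 7, (![x0, tab 1 x0, x2, tab 1 x2, 5, 4, 6])^[4] i = i) := by
  decide +kernel

theorem centre_unique : ∀ i : Fin 8, i ≠ 0 → (∃ j, ∀ x, pm i x = pm j (pm j x)) → i = 1 := by
  decide +kernel

theorem fixed_six : ∀ x : Fin 7, (∀ i : Fin 8, pm i x = x) → x = 6 := by decide +kernel

theorem pm_six : ∀ i : Fin 8, pm i 6 = 6 := by decide +kernel

/-- A permutation normalising the subgroup has order dividing four. -/
theorem pow_four_of_normalizes {σ : Perm (Fin 7)} (h : ∀ i, σ * pm i * σ⁻¹ ∈ P) : σ ^ 4 = 1 := by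
  have hfix : σ 6 = 6 := by
    refine fixed_six _ fun j => ?_
    -- every element of the subgroup is a conjugate of one of its elements
    have hsurj : Function.Surjective (fun i => (⟨σ * pm i * σ⁻¹, h i⟩ : P)) := by
      haveI : Fintype P := Fintype.ofFinite P
      have hinj : Function.Injective (fun i => (⟨σ * pm i * σ⁻¹, h i⟩ : P)) := fun i i' he => by
        have := congrArg Subtype.val he
        exact pm_injective (mul_left_cancel (mul_right_cancel this))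
      refine (Fintype.bijective_iff_injective_and_card _).2 ⟨hinj, ?_⟩ |>.2
      rw [Fintype.card_fin, ← Nat.card_eq_fintype_card, natCard_P]
    obtain ⟨i, hi⟩ := hsurj ⟨pm j, ⟨j, rfl⟩⟩
    have hi' : σ * pm i * σ⁻¹ = pm j := congrArg Subtype.val hi
    rw [← hi']
    simp [pm_six]
  have hz : σ * pm 1 * σ⁻¹ = pm 1 := by
    obtain ⟨k, hk⟩ := mem_P.1 (h 1)
    obtain ⟨j, hj⟩ := mem_P.1 (h 7)
    have h7 : pm 1 = pm 7 * pm 7 := Equiv.ext (by decide)
    have hsq : pm k = pm j * pm j := by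
      rw [hk, hj, h7]; group
    have hk0 : k ≠ 0 := by
      rintro rfl
      rw [pm_zero] at hk
      have : pm 1 = 1 := by
        have h' := congrArg (fun e => σ⁻¹ * e * σ) hk.symm
        simpa [mul_assoc] using h'
      exact absurd (congrArg (fun e : Perm (Fin 7) => e 0) this) (by decide)
    rw [← hk, centre_unique k hk0 ⟨j, fun x => by rw [hsq, Perm.mul_apply]⟩]
  have hc : ∀ x, σ (pm 1 x) = pm 1 (σ x) := fun x =>
    congrArg (fun e : Perm (Fin 7) => e x) (mul_inv_eq_iff_eq_mul.1 hz)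
  have hmove : ∀ x, pm 1 x ≠ x → pm 1 (σ x) ≠ σ x := fun x hx he =>
    hx (σ.injective (by rw [hc, he]))
  have h01 : σ 1 = tab 1 (σ 0) := by
    rw [← show pm 1 0 = 1 from by decide]; exact hc 0
  have h23 : σ 3 = tab 1 (σ 2) := by
    rw [← show pm 1 2 = 3 from by decide]; exact hc 2
  have h0 := hmove 0 (by decide)
  have h2 := hmove 2 (by decide)
  have hne : σ 2 ≠ σ 0 := σ.injective.ne (by decide)
  have hne' : σ 2 ≠ tab 1 (σ 0) := h01 ▸ σ.injective.ne (by decide)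
  have h4 : σ 4 = 4 ∨ σ 4 = 5 := by
    have hf : pm 1 (σ 4) = σ 4 := by rw [← hc]; exact congrArg σ (by decide)
    have : ∀ x : Fin 7, pm 1 x = x → x = 4 ∨ x = 5 ∨ x = 6 := by decide +kernel
    rcases this _ hf with e | e | e
    · exact Or.inl e
    · exact Or.inr e
    · exact absurd (σ.injective (e.trans hfix.symm)) (by decide)
  have h5 : σ 5 = 4 ∨ σ 5 = 5 := by
    have hf : pm 1 (σ 5) = σ 5 := by rw [← hc]; exact congrArg σ (by decide)
    have : ∀ x : Fin 7, pm 1 x = x → x = 4 ∨ x = 5 ∨ x = 6 := by decide +kernel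
    rcases this _ hf with e | e | e
    · exact Or.inl e
    · exact Or.inr e
    · exact absurd (σ.injective (e.trans hfix.symm)) (by decide)
  have hcoe : (⇑σ = ![σ 0, tab 1 (σ 0), σ 2, tab 1 (σ 2), 4, 5, 6]) ∨
      (⇑σ = ![σ 0, tab 1 (σ 0), σ 2, tab 1 (σ 2), 5, 4, 6]) := by
    rcases h4 with e4 | e4 <;> rcases h5 with e5 | e5
    · exact absurd (σ.injective (e4.trans e5.symm)) (by decide)
    · left; funext x; fin_cases x <;> simp [h01, h23, e4, e5, hfix]
    · right; funext x; fin_cases x <;> simp [h01, h23, e4, e5, hfix]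
    · exact absurd (σ.injective (e4.trans e5.symm)) (by decide)
  obtain ⟨t1, t2⟩ := pow_four_table _ h0 _ h2 hne hne'
  refine Equiv.ext fun x => ?_
  rw [Perm.coe_pow, Perm.one_apply]
  rcases hcoe with e | e
  · rw [e]; exact t1 x
  · rw [e]; exact t2 x

end CfsgLib.OmegaSevenTwo
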